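import Groth.Agent.Lib.BlowUpPerf4.Main
import Groth.Agent.Lib.CI2.FlatLCI
import Groth.Agent.Lib.KoszShH13.TReg
import Groth.Agent.Lib.FlatDepth.Fibre
import Groth.Agent.Lib.SMT.CMBasic
import Groth.Agent.S2092
import Groth.Prelude.Def_RegImm

/-!
# Blow-ups of Cohen–Macaulay schemes in regular centres are Cohen–Macaulay
-/

set_option autoImplicit false
set_option linter.style.haveILetI false
set_option backward.isDefEq.respectTransparency false

universe u

open CategoryTheory AlgebraicGeometry TopologicalSpace MvPolynomial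
open Groth.Agent.CI2 (Ex)

namespace Groth.Agent.BlowUpCM3

open BlowUpExist BlowUpExist.ChartIdx BlowUpPerf4

theorem cm_quotient {R : Type u} [CommRing R] [LocCoh.IsCohenMacaulayLocalRing R] {rs : List R}
    (hm : ∀ r ∈ rs, r ∈ IsLocalRing.maximalIdeal R) (hreg : RingTheory.Sequence.IsWeaklyRegular R rs) :
    LocCoh.IsCohenMacaulayLocalRing (R ⧸ Ideal.ofList rs) := by
  haveI : IsLocalRing (R ⧸ Ideal.ofList rs) :=
    haveI := Ideal.Quotient.nontrivial_iff.2 fun h : Ideal.ofList rs = ⊤ =>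
      (IsLocalRing.maximalIdeal.isMaximal R).ne_top (top_le_iff.1 (h ▸ Ideal.span_le.2 hm))
    IsLocalRing.of_surjective' _ Ideal.Quotient.mk_surjective
  refine @LocCoh.IsCohenMacaulayLocalRing.mk _ _ _ _ ?_
  have h0 : LocCoh.IsCohenMacaulayModule R R := LocCoh.IsCohenMacaulayLocalRing.supportDim_eq_depth
  have h1 : LocCoh.IsCohenMacaulayModule R (R ⧸ Ideal.ofList rs) :=
    KoszShH13.isCohenMacaulayModule_congr (Submodule.quotEquivOfEq _ _ (by rw [smul_eq_mul, Ideal.mul_top]))
      (KoszShH13.isCohenMacaulayModule_quotient_ofList hreg hm h0)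
  rw [← FlatDepth.depth_eq_of_surjective (A := R) (B := R ⧸ Ideal.ofList rs) (M := R ⧸ Ideal.ofList rs)
    Ideal.Quotient.mk_surjective, Module.supportDim_self_eq_ringKrullDim, ← Module.supportDim_quotient_eq_ringKrullDim]
  exact h1

theorem cm_atPrime_of_surjective {P B : Type u} [CommRing P] [CommRing B] [LocCoh.IsCohenMacaulayRing P]
    (σ : P →+* B) (hσ : Function.Surjective σ) {l : List P} (hl : Ex P P l) (hker : RingHom.ker σ = Ideal.ofList l)
    (p : Ideal B) [p.IsPrime] : LocCoh.IsCohenMacaulayLocalRing (Localization.AtPrime p) := by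
  let q : Ideal P := p.comap σ
  haveI : q.IsPrime := Ideal.IsPrime.comap σ
  haveI hPq : LocCoh.IsCohenMacaulayLocalRing (Localization.AtPrime q) :=
    LocCoh.IsCohenMacaulayRing.isCohenMacaulayLocalRing_localization q
  let R := Localization.AtPrime q
  let l' : List R := (l.map (algebraMap P R)).reverse
  have hlq : ∀ x ∈ l, x ∈ q := fun x hx => by
    show σ x ∈ p
    rw [show σ x = 0 from RingHom.mem_ker.1 (hker.ge (Ideal.subset_span hx))]
    exact zero_mem p
  have hm : ∀ r ∈ l', r ∈ IsLocalRing.maximalIdeal R := fun r hr => by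
    obtain ⟨x, hx, rfl⟩ := List.mem_map.1 (List.mem_reverse.1 hr)
    exact (IsLocalization.AtPrime.to_map_mem_maximal_iff R q x).2 (hlq x hx)
  have hreg : RingTheory.Sequence.IsWeaklyRegular R l' :=
    CI2.isWeaklyRegular_reverse_of_exact _ (fun x hx => hm x (List.mem_reverse.2 hx))
      (fun z hz => (BlowUpPerf4.ex_map_flat (B := R) hl) 0 z hz)
  haveI := cm_quotient hm hreg
  have hJ : Ideal.ofList l' = (Ideal.ofList l).map (algebraMap P R) := by
    rw [Ideal.map_ofList]
    exact congrArg Ideal.span (Set.ext fun x => List.mem_reverse)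
  let ψ : R →+* Localization.AtPrime p := Localization.localRingHom q p σ rfl
  have hψ : Function.Surjective ψ := fun y => by
    obtain ⟨⟨b, s⟩, rfl⟩ := IsLocalization.mk'_surjective p.primeCompl y
    obtain ⟨a, rfl⟩ := hσ b
    obtain ⟨t, ht⟩ := hσ s.1
    refine ⟨IsLocalization.mk' _ a (⟨t, fun h => s.2 (ht ▸ h)⟩ : q.primeCompl), ?_⟩
    rw [Localization.localRingHom_mk']
    exact congrArg (IsLocalization.mk' _ (σ a)) (Subtype.ext ht)
  have hkψ : RingHom.ker ψ = Ideal.ofList l' := by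
    rw [hJ]
    refine le_antisymm (fun x hx => ?_) (Ideal.map_le_iff_le_comap.2 fun a ha => ?_)
    · obtain ⟨⟨a, s⟩, rfl⟩ := IsLocalization.mk'_surjective q.primeCompl x
      rw [RingHom.mem_ker, Localization.localRingHom_mk', IsLocalization.mk'_eq_zero_iff] at hx
      obtain ⟨t, ht⟩ := hx
      obtain ⟨t', ht'⟩ := hσ t.1
      have hmem : t' * a ∈ Ideal.ofList l := by
        rw [← hker, RingHom.mem_ker, map_mul, ht']
        exact ht
      rw [IsLocalization.mk'_mem_map_algebraMap_iff q.primeCompl]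
      exact ⟨t', fun h => t.2 (ht' ▸ h), hmem⟩
    · show ψ (algebraMap P R a) = 0
      rw [Localization.localRingHom_to_map, show σ a = 0 from RingHom.mem_ker.1 (hker.ge ha), map_zero]
  exact SMT.isCM_of_ringEquiv
    ((Ideal.quotEquivOfEq hkψ.symm).trans (RingHom.quotientKerEquivOfSurjective hψ)) inferInstance

theorem isCMRing_affineAlgebra {A : Type u} [CommRing A] [LocCoh.IsCohenMacaulayRing A] {n : ℕ} (c : A)
    (a : Fin n → A) (h : Ex A A (c :: List.ofFn a)) {I : Ideal A} (hI : I = Ideal.span (insert c (Set.range a)))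
    (p : Ideal (BlowUp.affineAlgebra A I c)) [p.IsPrime] :
    LocCoh.IsCohenMacaulayLocalRing (Localization.AtPrime p) := by
  haveI : LocCoh.IsCohenMacaulayRing (MvPolynomial (Fin n) A) := S2092.result n
  obtain ⟨hex, hk⟩ := ex_and_ker c a h
  have hr : (pres c a).range = BlowUp.affineAlgebra A I c := by
    refine le_antisymm ?_ (Algebra.adjoin_le ?_)
    · rw [pres, ← Algebra.adjoin_range_eq_range_aeval]
      refine Algebra.adjoin_mono ?_
      rintro _ ⟨i, rfl⟩
      exact ⟨a i, hI ▸ Ideal.subset_span (Set.mem_insert_of_mem _ ⟨i, rfl⟩), rfl⟩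
    · rintro _ ⟨x, hx, rfl⟩
      rw [hI] at hx
      let f : A →ₗ[A] Localization.Away c :=
        (LinearMap.mulRight A (IsLocalization.mk' (Localization.Away c) 1 (⟨c, Submonoid.mem_powers c⟩ : Submonoid.powers c))).comp
          (Algebra.linearMap A _)
      have hf : ∀ x, f x = IsLocalization.mk' (Localization.Away c) x (⟨c, Submonoid.mem_powers c⟩ : Submonoid.powers c) :=
        fun x => (IsLocalization.mk'_eq_mul_mk'_one x _).symm
      rw [← hf]
      refine (Submodule.span_le (p := (pres c a).range.toSubmodule.comap f)).2 ?_ hx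
      rintro y (rfl | ⟨i, rfl⟩)
      · show f y ∈ (pres y a).range
        rw [hf, IsLocalization.mk'_self]
        exact one_mem _
      · show f (a i) ∈ (pres c a).range
        rw [hf]
        exact ⟨X i, aeval_X _ _⟩
  subst hI
  let σ : MvPolynomial (Fin n) A →ₐ[A] BlowUp.affineAlgebra A (Ideal.span (insert c (Set.range a))) c :=
    (Subalgebra.equivOfEq _ _ hr).toAlgHom.comp (pres c a).rangeRestrict
  have hs : Function.Surjective σ :=
    (Subalgebra.equivOfEq _ _ hr).surjective.comp (pres c a).rangeRestrict_surjective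
  refine cm_atPrime_of_surjective σ.toRingHom hs hex ?_ p
  rw [← hk]
  ext x
  exact ⟨fun hp => congrArg Subtype.val hp, fun hp => Subtype.ext hp⟩

theorem isCMRing_affine {W : Scheme.{u}} [IsLocallyNoetherian W]
    (hcm : ∀ w : W, LocCoh.IsCohenMacaulayLocalRing (W.presheaf.stalk w)) (U : W.affineOpens) :
    LocCoh.IsCohenMacaulayRing Γ(W, U.1) := by
  haveI : IsNoetherianRing Γ(W, U.1) := IsLocallyNoetherian.component_noetherian U
  refine { isCohenMacaulayLocalRing_localization := fun p _ => ?_ }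
  let x := U.2.fromSpec (⟨p, inferInstance⟩ : PrimeSpectrum Γ(W, U.1))
  have hxU : x ∈ U.1 := U.2.range_fromSpec.le ⟨_, rfl⟩
  letI : Algebra Γ(W, U.1) (W.presheaf.stalk x) := (W.presheaf.germ U.1 x hxU).hom.toAlgebra
  haveI : IsLocalization.AtPrime (W.presheaf.stalk x) p := U.2.isLocalization_stalk' ⟨p, inferInstance⟩ hxU
  haveI := hcm x
  exact SMT.isCM_of_ringEquiv
    (IsLocalization.algEquiv p.primeCompl (W.presheaf.stalk x) (Localization.AtPrime p)).toRingEquiv (hcm x)

theorem regularCentre {W : Scheme.{u}} {I : W.IdealSheafData}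
    (hI : RegImm.IsRegularIdeal RegImm.Kind.regular I) : RegularCentre I := by
  intro x
  by_cases hx : x ∈ I.support
  · obtain ⟨U, hxU, rs, hrs, hk⟩ := hI x hx
    exact ⟨U, rs, hxU, CI2.ex_of_isWeaklyRegular rs _ hrs.toIsWeaklyRegular, hk⟩
  · obtain ⟨_, ⟨U, hU, rfl⟩, hxU, hUc⟩ :=
      W.isBasis_affineOpens.exists_subset_of_mem_open (a := x) hx I.support.isClosed.isOpen_compl
    refine ⟨⟨U, hU⟩, [1], hxU, (CI2.ex_of_unit_mem _ ⟨1, List.mem_singleton_self _, isUnit_one⟩).1, ?_⟩
    have h0 : PrimeSpectrum.zeroLocus (I.ideal ⟨U, hU⟩ : Set Γ(W, U)) = ∅ := by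
      rw [Set.eq_empty_iff_forall_notMem]
      intro y hy
      refine hUc (hU.range_fromSpec.le ⟨y, rfl⟩) ?_
      have : hU.fromSpec y ∈ (I.support : Set W) ∩ U := by
        rw [I.coe_support_inter ⟨U, hU⟩, ← IsAffineOpen.fromSpec_image_zeroLocus hU]
        exact ⟨y, hy, rfl⟩
      exact this.1
    rw [PrimeSpectrum.zeroLocus_empty_iff_eq_top.1 h0, Ideal.ofList_singleton, Ideal.span_singleton_one]

theorem isCM_stalk_blowUp {X Y : Scheme.{u}} [IsLocallyNoetherian X]
    (hcm : ∀ w : X, LocCoh.IsCohenMacaulayLocalRing (X.presheaf.stalk w))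
    {C : X.IdealSheafData} (hC : RegularCentre C) {b : Y ⟶ X} (hb : BlowUp.IsBlowUp b C) (y : Y) :
    LocCoh.IsCohenMacaulayLocalRing (Y.presheaf.stalk y) := by
  obtain ⟨U, l, hyU, hl, hI⟩ := hC (b y)
  obtain ⟨m, v, rfl⟩ : ∃ (m : ℕ) (v : Fin m → Γ(X, U.1)), List.ofFn v = l := ⟨_, _, List.ofFn_get l⟩
  rw [ofList_ofFn] at hI
  have hv' : ∀ k, v k ∈ (C ^ (0 + 1)).ideal U := fun k => by
    rw [zero_add, pow_one, hI]; exact Ideal.subset_span ⟨k, rfl⟩
  obtain ⟨j, hj⟩ := exists_gen_mem hb v hI hv' hyU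
  let i : ChartIdx C := ⟨U, 0, v j, hv' j⟩
  obtain ⟨n, rfl⟩ : ∃ n, m = n + 1 := ⟨m - 1, by have := j.2; omega⟩
  haveI := isCMRing_affine hcm U
  let σ : Γ(X, U.1) ≃+* Γ(i.U.1.toScheme, ⊤) := (U.1.topIso.symm).commRingCatIsoToRingEquiv
  haveI : LocCoh.IsCohenMacaulayRing Γ(i.U.1.toScheme, ⊤) := by
    haveI : IsNoetherianRing Γ(i.U.1.toScheme, ⊤) := isNoetherianRing_of_ringEquiv _ σ
    refine { isCohenMacaulayLocalRing_localization := fun q _ => ?_ }
    let q' : Ideal Γ(X, U.1) := q.comap σ.toRingHom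
    haveI := LocCoh.IsCohenMacaulayRing.isCohenMacaulayLocalRing_localization (R := Γ(X, U.1)) q'
    exact SMT.isCM_of_ringEquiv (IsLocalization.ringEquivOfRingEquiv (Localization.AtPrime q')
      (Localization.AtPrime q) (M := q'.primeCompl) (T := q.primeCompl) σ (by
        ext x
        constructor
        · rintro ⟨z, hz, rfl⟩; exact hz
        · intro hx
          exact ⟨σ.symm x, fun h => hx (by simpa [q'] using h), σ.apply_symm_apply x⟩)) inferInstance
  obtain ⟨e, he⟩ := exists_locus_iso hb i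
  let B := BlowUp.affineAlgebra Γ(i.U.1.toScheme, ⊤) (i.J.ideal ⟨⊤, isAffineOpen_top _⟩) i.sec
  let z : Spec (CommRingCat.of B) := e.hom (⟨y, hj⟩ : (i.locus b).toScheme)
  haveI : LocCoh.IsCohenMacaulayLocalRing (Localization.AtPrime (show PrimeSpectrum B from z).asIdeal) := by
    refine isCMRing_affineAlgebra i.sec (fun k => σ (v (j.succAbove k))) ?_ ?_ _
    · have h := CI2.ex_map_equiv σ hl
      rw [List.map_ofFn] at h
      refine CI2.ex_of_ofList_eq h ?_ (by simp)
      rw [Ideal.ofList_cons, ofList_ofFn, ofList_ofFn, ← Ideal.span_union, ← Set.insert_eq]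
      exact congrArg Ideal.span (insert_range_succAbove σ v j)
    · rw [ChartIdx.J_ideal_top]
      show ((C ^ (0 + 1)).ideal U).map _ = _
      rw [zero_add, pow_one, hI, Ideal.map_span, ← Set.range_comp]
      exact congrArg Ideal.span (insert_range_succAbove σ v j).symm
  haveI : LocCoh.IsCohenMacaulayLocalRing ((Spec (CommRingCat.of B)).presheaf.stalk z) :=
    SMT.isCM_of_ringEquiv (StructureSheaf.stalkIso B (show PrimeSpectrum B from z)).toRingEquiv inferInstance
  haveI : LocCoh.IsCohenMacaulayLocalRing ((i.locus b).toScheme.presheaf.stalk ⟨y, hj⟩) :=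
    SMT.isCM_of_ringEquiv (asIso (e.hom.stalkMap ⟨y, hj⟩)).commRingCatIsoToRingEquiv ‹_›
  exact SMT.isCM_of_ringEquiv (Scheme.Opens.stalkIso (i.locus b) ⟨y, hj⟩).commRingCatIsoToRingEquiv ‹_›

end Groth.Agent.BlowUpCM3
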